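import Cfsg.Agent.Lib.Techniques.UThreeLTwo

/-!
Matrices over the model of the field with nine elements: the facts about `SU₃(3)` that are used for
its character degree graph.
-/

set_option autoImplicit false

namespace CfsgLib.SmallGroups.U33Degrees

open Matrix CfsgLib.Techniques.UThreeLTwo

/-- The isotropic vector. -/
def vW : Fin 3 → W9 := ![1, 1, 1]

/-- The matrix exchanging two isotropic lines. -/
def mw : ℕ := 86106565

/-- An element of order `7`. -/
def mx : ℕ := 971469

/-- An element squaring it by conjugation. -/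
def mg : ℕ := 347125295

/-- An element of the torus. -/
def mb : ℕ := 160341354

/-- The inverse of the matrix with columns `e₀, x e₀, x² e₀`. -/
def mki : ℕ := 38322811

/-- The unipotent elements fixing the isotropic vector, with elements conjugating them to their inverses. -/
def uList : List (ℕ × ℕ) := [
  (590499, 1076166), (4783779, 1076166), (143119431, 61479873), (270647559, 61479873), (43053283, 538164), (219658439, 65783809), (228044999, 23274433), (347186567, 23274433), (355573127, 65783809), (28503111, 86094918), (145873182, 61479873), (150066462, 74059713), (283559367, 1076166), (188335966, 160341354), (105042119, 86094918), (113428679, 86094918), (360098375, 1076166), (368484935, 1076166), (41414919, 86094918), (168943047, 1076166), (291155865, 74059713), (295349145, 61479873), (333618649, 160341354), (117953927, 86094918), (126340487, 86094918), (245482055, 1076166), (253868615, 1076166)]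

/-- The other isotropic vector. -/
def wvW : Fin 3 → W9 := ![1, ⟨2, 0⟩, ⟨2, 0⟩]

theorem wvW_eq : dec mw *ᵥ vW = wvW := by decide +kernel

/-- A vector orthogonal to both isotropic vectors. -/
def zW : Fin 3 → W9 := ![0, 1, ⟨2, 0⟩]

/-- The vectors `xʲ e₀`. -/
def colList : List (Fin 3 → W9) := (List.range 7).map fun j => fun i => (dec mx ^ j) i 0

/-- All the elements of the model field. -/
def allW : List W9 := (List.range 9).map el

theorem mem_allW : ∀ a : W9, a ∈ allW := by decide +kernel

/-- Unimodular and unitary, in a decidable form. -/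
def UnitB (X : Matrix (Fin 3) (Fin 3) W9) : Bool :=
  decide (X 0 0 * X 1 1 * X 2 2 - X 0 0 * X 1 2 * X 2 1 - X 0 1 * X 1 0 * X 2 2 +
    X 0 1 * X 1 2 * X 2 0 + X 0 2 * X 1 0 * X 2 1 - X 0 2 * X 1 1 * X 2 0 = 1) &&
  decide (Xᵀ * X.map W9.cube = 1)

theorem unitB_iff (X : Matrix (Fin 3) (Fin 3) W9) : UnitB X = true ↔ X ∈ unitW9 := by
  simp only [UnitB, Bool.and_eq_true, decide_eq_true_eq]
  rw [← Matrix.det_fin_three]
  exact Iff.rfl

theorem unit_consts : ([mw, mx, mg, mb] ++ uList.map Prod.fst ++ uList.map Prod.snd).all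
    (fun c => UnitB (dec c)) = true := by decide +kernel

theorem u_nodup : (uList.map fun p => dec p.1).Nodup := by decide +kernel

theorem u_fix : (uList.map Prod.fst).all (fun a => decide (dec a *ᵥ vW = vW)) = true := by decide +kernel

theorem u_real : uList.all (fun p => decide (dec p.1 * dec p.2 * dec p.1 = dec p.2)) = true := by
  decide +kernel

theorem z_line : allW.all (fun y₀ => allW.all fun y₁ => allW.all fun y₂ =>
    !decide (y₀ * W9.cube (vW 0) + y₁ * W9.cube (vW 1) + y₂ * W9.cube (vW 2) = 0 ∧
      y₀ * W9.cube (wvW 0) + y₁ * W9.cube (wvW 1) + y₂ * W9.cube (wvW 2) = 0) ||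
      allW.any fun t => decide ((![y₀, y₁, y₂] : Fin 3 → W9) = t • zW)) = true := by decide +kernel

/-- The matrix with columns the three vectors. -/
def frameW : Matrix (Fin 3) (Fin 3) W9 := Matrix.of fun i j => (![vW, wvW, zW] : Fin 3 → Fin 3 → W9) j i

theorem frame_det : frameW 0 0 * frameW 1 1 * frameW 2 2 - frameW 0 0 * frameW 1 2 * frameW 2 1 -
    frameW 0 1 * frameW 1 0 * frameW 2 2 + frameW 0 1 * frameW 1 2 * frameW 2 0 +
    frameW 0 2 * frameW 1 0 * frameW 2 1 - frameW 0 2 * frameW 1 1 * frameW 2 0 ≠ 0 := by decide +kernel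

theorem w_moves : allW.all (fun a => !decide (wvW = a • vW)) = true := by decide +kernel

/-- Proportionality. -/
def propB (p y : Fin 3 → W9) : Bool :=
  decide (p 0 * y 1 = p 1 * y 0) && decide (p 0 * y 2 = p 2 * y 0) && decide (p 1 * y 2 = p 2 * y 1)

theorem cover : allW.all (fun y₀ => allW.all fun y₁ => allW.all fun y₂ =>
    !decide (y₀ * W9.cube y₀ + y₁ * W9.cube y₁ + y₂ * W9.cube y₂ = 0) ||
      decide (y₀ = y₁ ∧ y₁ = y₂) ||
      (uList.map fun p => dec p.1 *ᵥ wvW).any fun q => propB q ![y₀, y₁, y₂]) = true := by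
  decide +kernel

theorem x_pow : dec mx * dec mx * dec mx * dec mx * dec mx * dec mx * dec mx = 1 := by decide +kernel

theorem x_ne : dec mx ≠ 1 := by decide +kernel

theorem x_sq : dec mg * dec mx = dec mx * dec mx * dec mg := by decide +kernel

theorem x_trace : Matrix.trace (dec mx) ≠
    Matrix.trace (dec mx * dec mx * dec mx * dec mx * dec mx * dec mx) := by decide +kernel

/-- The matrix commuting with the chosen element with first column `c`. -/
def commMat (c : Fin 3 → W9) : Matrix (Fin 3) (Fin 3) W9 :=
  (Matrix.of fun i j => (![c, dec mx *ᵥ c, dec mx *ᵥ (dec mx *ᵥ c)] : Fin 3 → Fin 3 → W9) j i) * dec mki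

theorem k_inv : (Matrix.of fun i j => (![Pi.single 0 1, dec mx *ᵥ Pi.single 0 1,
      dec mx *ᵥ (dec mx *ᵥ Pi.single 0 1)] : Fin 3 → Fin 3 → W9) j i) * dec mki = 1 := by
  decide +kernel

theorem cent_check : allW.all (fun y₀ => allW.all fun y₁ => allW.all fun y₂ =>
    !decide (y₀ * W9.cube y₀ + y₁ * W9.cube y₁ + y₂ * W9.cube y₂ = 1) ||
      !UnitB (commMat ![y₀, y₁, y₂]) ||
      colList.any fun c => decide (c = ![y₀, y₁, y₂])) = true := by
  decide +kernel

theorem b_vec : dec mb *ᵥ vW = (el 4) • vW ∧ dec mb *ᵥ wvW = (el 4 * el 4 * el 4 * el 4 * el 4) • wvW ∧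
    el 4 * el 4 * el 4 * el 4 ≠ 1 := by decide +kernel

theorem form_ne : vW 0 * W9.cube (wvW 0) + vW 1 * W9.cube (wvW 1) + vW 2 * W9.cube (wvW 2) ≠ 0 := by
  decide +kernel

theorem scalar_ratio : ∀ a c : W9, a * W9.cube c = 1 → c = a * a * a * a * a := by decide +kernel

end CfsgLib.SmallGroups.U33Degrees
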