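import Cfsg.Agent.Lib.SmallGroups.U33Degrees.Abstract
import Cfsg.Agent.Lib.SmallGroups.U33Degrees.ModelData
import Cfsg.Agent.Lib.Classical.HermOrder
import Cfsg.Agent.Lib.Classical.UnitaryPSU
import Mathlib

/-!
`SU₃(3)` satisfies the hypotheses used for its degree graph.
-/

set_option autoImplicit false

namespace CfsgLib.SmallGroups.U33Degrees

open Matrix Cfsg CfsgLib.Techniques.UThreeLTwo CfsgLib.Classical

variable {F : Type*} [Field F] [Fintype F]

omit [Fintype F] in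
theorem herm3 (u v : Fin 3 → F) : hermForm 3 F 3 u v = u 0 * v 0 ^ 3 + u 1 * v 1 ^ 3 + u 2 * v 2 ^ 3 := by
  simp [hermForm, Fin.sum_univ_three]

/-- `SU₃(3)` read over the model field. -/
theorem exists_coord (hF : Fintype.card F = 9) :
    ∃ (φ : W9 ≃+* F) (E : SU 3 F 3 → Matrix (Fin 3) (Fin 3) W9),
      (∀ g, (E g).map φ = g.1.1) ∧ (∀ a, φ (W9.cube a) = φ a ^ 3) ∧ Function.Injective E ∧
      E 1 = 1 ∧ (∀ g h, E (g * h) = E g * E h) ∧ (∀ X, (∃ g, E g = X) ↔ X ∈ unitW9) := by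
  classical
  obtain ⟨φ₀, hinj, hcube⟩ := W9.exists_hom hF
  have hbij : Function.Bijective φ₀ := (Fintype.bijective_iff_injective_and_card φ₀).2
    ⟨hinj, by rw [hF]; decide⟩
  let φ : W9 ≃+* F := RingEquiv.ofBijective φ₀ hbij
  let E : SU 3 F 3 → Matrix (Fin 3) (Fin 3) W9 := fun g => g.1.1.map φ.symm
  have hE : ∀ g, (E g).map φ = g.1.1 := fun g => by ext i j; simp [E]
  have hcube' : ∀ a, φ (W9.cube a) = φ a ^ 3 := hcube
  have hmapinj : Function.Injective fun X : Matrix (Fin 3) (Fin 3) W9 => X.map φ :=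
    Matrix.map_injective φ.injective
  refine ⟨φ, E, hE, hcube', fun g h e => Subtype.ext (Subtype.ext ?_), hmapinj ?_,
    fun g h => hmapinj ?_, fun X => ⟨?_, ?_⟩⟩
  · rw [← hE g, ← hE h, e]
  · show (E 1).map φ = (1 : Matrix (Fin 3) (Fin 3) W9).map φ
    rw [hE, Matrix.map_one φ (map_zero φ) (map_one φ)]
    rfl
  · show (E (g * h)).map φ = (E g * E h).map φ
    rw [hE, Matrix.map_mul, hE, hE]
    rfl
  · rintro ⟨g, rfl⟩
    refine ⟨φ.injective ?_, hmapinj ?_⟩
    · rw [RingEquiv.map_det, map_one, show φ.mapMatrix (E g) = g.1.1 from hE g]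
      exact g.1.2
    · show ((E g)ᵀ * (E g).map W9.cube).map φ = (1 : Matrix (Fin 3) (Fin 3) W9).map φ
      rw [Matrix.map_one φ (map_zero φ) (map_one φ)]
      ext i j
      have h : hermForm 3 F 3 (g.1.1 *ᵥ Pi.single i 1) (g.1.1 *ᵥ Pi.single j 1) =
        hermForm 3 F 3 (Pi.single i (1 : F)) (Pi.single j 1) := g.2 _ _
      simp only [Matrix.mulVec_single, MulOpposite.op_one, one_smul, herm3, Matrix.col_apply] at h
      simp only [Matrix.mul_apply, Fin.sum_univ_three, Matrix.transpose_apply, Matrix.map_apply,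
        map_add, map_mul, hcube', E, RingEquiv.apply_symm_apply]
      rw [h]
      fin_cases i <;> fin_cases j <;> simp
  · intro hX
    have hdet : (X.map φ).det = 1 := by
      rw [← RingEquiv.mapMatrix_apply, ← RingEquiv.map_det, hX.1, map_one]
    have hform : ∀ u v, hermForm 3 F 3 ((X.map φ) *ᵥ u) ((X.map φ) *ᵥ v) = hermForm 3 F 3 u v := by
      intro u v
      obtain ⟨σ, hσ, -, -⟩ := exists_qPow (F := F) (q := 3) hF
      have hXt : (X.map φ)ᵀ * (X.map φ).map σ = 1 := by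
        have h := congrArg (fun Y : Matrix (Fin 3) (Fin 3) W9 => Y.map φ) hX.2
        simp only [Matrix.map_mul, Matrix.map_one φ (map_zero φ) (map_one φ), Matrix.transpose_map,
          Matrix.map_map] at h
        rw [← h]
        congr 1
        ext i j
        simp [hσ, hcube']
      have e1 : ∀ (u v : Fin 3 → F), hermForm 3 F 3 u v = u ⬝ᵥ (σ ∘ v) := fun u v => by
        simp [hermForm, dotProduct, hσ]
      rw [e1, e1, show σ ∘ ((X.map φ) *ᵥ v) = (X.map φ).map σ *ᵥ (σ ∘ v) from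
        funext fun i => RingHom.map_mulVec σ _ v i, Matrix.dotProduct_mulVec, ← Matrix.vecMul_transpose,
        Matrix.vecMul_vecMul, hXt, Matrix.vecMul_one]
    exact ⟨suMk _ hdet hform, hmapinj (hE _)⟩

/-- The form over the model. -/
def hW (u v : Fin 3 → W9) : W9 := u 0 * W9.cube (v 0) + u 1 * W9.cube (v 1) + u 2 * W9.cube (v 2)

theorem hW_smul (a c : W9) (u v : Fin 3 → W9) : hW (a • u) (c • v) = a * W9.cube c * hW u v := by
  simp only [hW, Pi.smul_apply, smul_eq_mul, map_mul]; ring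

theorem hW_unit {X : Matrix (Fin 3) (Fin 3) W9} (hX : X ∈ unitW9) (u v : Fin 3 → W9) :
    hW (X *ᵥ u) (X *ᵥ v) = hW u v := by
  have e1 : ∀ u v : Fin 3 → W9, hW u v = u ⬝ᵥ (W9.cube ∘ v) := fun u v => by
    simp [hW, dotProduct, Fin.sum_univ_three]
  rw [e1, e1, show W9.cube ∘ (X *ᵥ v) = X.map W9.cube *ᵥ (W9.cube ∘ v) from
    funext fun i => RingHom.map_mulVec W9.cube _ v i, Matrix.dotProduct_mulVec, ← Matrix.vecMul_transpose,
    Matrix.vecMul_vecMul, hX.2, Matrix.vecMul_one]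

theorem prop_smul {p y : Fin 3 → W9} (h : propB p y = true) (hy : y ≠ 0) : ∃ a : W9, p = a • y := by
  simp only [propB, Bool.and_eq_true, decide_eq_true_eq] at h
  obtain ⟨⟨h01, h02⟩, h12⟩ := h
  obtain ⟨i, hi⟩ : ∃ i, y i ≠ 0 := Function.ne_iff.mp hy
  obtain ⟨b, hb⟩ := (W9.ne_zero_isUnit (y i)).resolve_left hi
  refine ⟨p i * b, funext fun j => ?_⟩
  have key : p i * y j = p j * y i := by
    fin_cases i <;> fin_cases j <;> first | rfl | exact h01 | exact h02 | exact h12 | exact h01.symm | exact h02.symm | exact h12.symm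
  rw [Pi.smul_apply, smul_eq_mul, mul_assoc, mul_comm b, ← mul_assoc, key, mul_assoc, hb, mul_one]

end CfsgLib.SmallGroups.U33Degrees
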