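import Cfsg.Agent.Lib.SmallGroups.DegreeTwoP.Constituents
import Mathlib

/-!
The character degrees not divisible by `7` of a perfect group of order `6048` with a character of
degree `27`.
-/

set_option autoImplicit false

namespace CfsgLib.SmallGroups.U33Degrees

open Subgroup CfsgLib.InvolChar CfsgLib.Blocks CfsgLib.Blocks.PrimeSylow Cfsg
open CfsgLib.SmallGroups.BrauerFew (Loc)
open scoped ComplexConjugate

/-- The numerical conditions on the degrees `a` and `f` imply the two solutions. -/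
def check (σ ε : ℤ) (f a : ℕ) : Bool :=
  !(decide (f ∣ 6048) && decide (a ∣ 6048) && decide (a * a + 2 * (f * f) + 730 ≤ 6048) &&
      decide ((7 : ℤ) ∣ (a : ℤ) - σ) && decide ((7 : ℤ) ∣ (f : ℤ) - ε * 3) &&
      decide (1 - 27 + σ * (a : ℤ) = ε * (f : ℤ))) ||
    decide ((a = 6 ∧ f = 32) ∨ (a = 8 ∧ f = 18))

theorem check_all :
    ([1, -1] : List ℤ).all (fun σ => ([1, -1] : List ℤ).all fun ε =>
      (List.range 55).all fun f => (List.range 80).all fun a => check σ ε f a) = true := by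
  decide +kernel

theorem enum (σ ε : ℤ) (hσ : σ = 1 ∨ σ = -1) (hε : ε = 1 ∨ ε = -1) (f : ℕ) (hf : f < 55) (a : ℕ)
    (ha : a < 80)
    (h : f ∣ 6048 ∧ a ∣ 6048 ∧ a * a + 2 * (f * f) + 730 ≤ 6048 ∧ (7 : ℤ) ∣ (a : ℤ) - σ ∧
      (7 : ℤ) ∣ (f : ℤ) - ε * 3 ∧ 1 - 27 + σ * a = ε * f) :
    (a = 6 ∧ f = 32) ∨ (a = 8 ∧ f = 18) := by
  have h1 := List.all_eq_true.mp check_all σ (by rcases hσ with rfl | rfl <;> simp)
  have h2 := List.all_eq_true.mp (List.all_eq_true.mp (List.all_eq_true.mp h1 ε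
    (by rcases hε with rfl | rfl <;> simp)) f (List.mem_range.mpr hf)) a (List.mem_range.mpr ha)
  obtain ⟨e1, e2, e3, e4, e5, e6⟩ := h
  simp only [check, Bool.or_eq_true, Bool.not_eq_true', Bool.and_eq_false_iff, decide_eq_false_iff_not,
    decide_eq_true_eq] at h2
  tauto

theorem sq_eq_one_zmod7 : ∀ z : ZMod 7, z ^ 2 = 1 → z = 1 ∨ z = -1 := by decide

/-- A unit of `ZMod 7` in a subgroup not containing `-1`. -/
theorem card_range_eq_three (K : Subgroup (ZMod 7)ˣ) (h2 : ∃ u ∈ K, (u : ZMod 7) = 2)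
    (hn : ∀ u ∈ K, (u : ZMod 7) ≠ -1) : Nat.card K = 3 := by
  haveI : Fact (Nat.Prime 7) := ⟨by norm_num⟩
  obtain ⟨u, hu, hu2⟩ := h2
  have ho : orderOf u = 3 := orderOf_eq_prime (Units.ext (by rw [Units.val_pow_eq_pow_val, hu2]; decide))
    fun h => by rw [h] at hu2; exact absurd hu2 (by decide)
  have h3 : 3 ∣ Nat.card K := ho ▸ Subgroup.orderOf_mk u hu ▸ orderOf_dvd_natCard _
  have h6 : Nat.card K ∣ 6 := by
    have := K.card_subgroup_dvd_card
    rwa [Nat.card_eq_fintype_card (α := (ZMod 7)ˣ), ZMod.card_units] at this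
  have h2K : ¬ 2 ∣ Nat.card K := by
    intro h
    haveI : Fact (Nat.Prime 2) := ⟨Nat.prime_two⟩
    obtain ⟨v, hv⟩ := exists_prime_orderOf_dvd_card' 2 h
    refine hn v v.2 ?_
    have hv1 : (v : (ZMod 7)ˣ) ^ 2 = 1 := by
      rw [← SubmonoidClass.coe_pow, ← hv, pow_orderOf_eq_one]; rfl
    refine (sq_eq_one_zmod7 _ (by rw [← Units.val_pow_eq_pow_val, hv1, Units.val_one])).resolve_left fun h1 => ?_
    have : v = 1 := Subtype.ext (Units.ext h1)
    rw [this, orderOf_one] at hv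
    omega
  have := Nat.le_of_dvd (by norm_num) h6
  interval_cases h : Nat.card K <;> omega

variable {H : Type*} [Group H] [Fintype H] [Fact (Nat.Prime 7)] {x : H}

set_option maxHeartbeats 1600000 in
theorem block_degrees (L : Loc H 7 x) (hcard : Nat.card H = 6048) (h2 : ∃ g, g * x * g⁻¹ = x ^ 2)
    (hinv : ∀ g, g * x * g⁻¹ ≠ x⁻¹) (c : IrrCharacter H) (hcd : deg c = 27)
    (hcx : ∀ u ∈ zpowers x, u ≠ 1 → (c : H → ℂ) u = -1) :
    (∀ χ : IrrCharacter H, 7 ∣ deg χ ∨ deg χ ∈ ([1, 27, 6, 8, 18, 32] : List ℕ)) ∧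
      ∃ χ : IrrCharacter H, 6 ∣ deg χ := by
  classical
  obtain ⟨P, hPx, hP⟩ := L.exists_sylow
  have hrel : (centralizer ((P : Subgroup H) : Set H)).relIndex (normalizer ((P : Subgroup H) : Set H)) = 3 := by
    rw [← card_range_rhoU P hP]
    obtain ⟨g, hg⟩ := h2
    have hxP : x ∈ (P : Subgroup H) := hPx ▸ mem_zpowers x
    obtain ⟨i, hi⟩ := pw_surjOn P hP hxP
    have hgN : g ∈ normalizer ((P : Subgroup H) : Set H) := by
      rw [Subgroup.mem_normalizer_iff]
      intro y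
      rw [hPx]
      refine ⟨fun hy => ?_, fun hy => ?_⟩
      · obtain ⟨k, rfl⟩ := mem_zpowers_iff.mp hy
        rw [← conj_zpow, hg]
        exact zpow_mem (pow_mem (mem_zpowers x) 2) k
      · have h4 : g⁻¹ * x * g = x ^ 4 := by
          have h8 : g * x ^ 4 * g⁻¹ = x := by
            rw [← conj_pow, hg, ← pow_mul, show 2 * 4 = orderOf x + 1 by rw [L.order], pow_succ,
              pow_orderOf_eq_one, one_mul]
          calc g⁻¹ * x * g = g⁻¹ * (g * x ^ 4 * g⁻¹) * g := by rw [h8]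
            _ = x ^ 4 := by group
        obtain ⟨k, hk⟩ := mem_zpowers_iff.mp hy
        have : y = (g⁻¹ * x * g) ^ k := by
          rw [show g⁻¹ * x * g = g⁻¹ * x * g⁻¹⁻¹ by rw [inv_inv], conj_zpow, hk]
          group
        rw [this, h4]
        exact zpow_mem (pow_mem (mem_zpowers x) 4) k
    refine card_range_eq_three _ ⟨rhoU P hP ⟨g, hgN⟩, ⟨_, rfl⟩, ?_⟩ ?_
    · have h := conj_pw' P hP ⟨g, hgN⟩ i
      rw [hi] at h
      change g * x * g⁻¹ = _ at h
      rw [hg, ← hi, pw_pow] at h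
      have hi0 : i ≠ 0 := fun h0 => L.ne_one (by rw [← hi, h0, pw_zero])
      refine mul_right_cancel₀ hi0 ?_
      rw [coe_rhoU, ← pw_injective P hP h]
      ring
    · rintro _ ⟨⟨g', hg'⟩, rfl⟩ he
      refine hinv g' ?_
      have h := conj_pw' P hP ⟨g', hg'⟩ i
      rw [coe_rhoU] at he
      rw [hi, he, neg_one_mul] at h
      change g' * x * g'⁻¹ = _ at h
      rw [h]
      refine eq_inv_of_mul_eq_one_left ?_
      rw [← hi, ← pw_add, neg_add_cancel, pw_zero]
  obtain ⟨M, hM⟩ := CfsgLib.Invol.exists_isPModular 7 (by norm_num)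
  haveI := hM.2.1
  obtain ⟨X, Y, hB, hXY, hXc, hYc, -, εX, ε, hX, hε, hYdeg, hYeq, hYrel⟩ :=
    principal_block_prime_sylow P hM hP 3 hrel
  have hone_mem : CfsgLib.Char.irrOne ∈ Cfsg.principalBlock M H := irrOne_mem_principalBlock
  let Xf : Finset (IrrCharacter H) := Finset.univ.filter (· ∈ X)
  let Yf : Finset (IrrCharacter H) := Finset.univ.filter (· ∈ Y)
  have hXf : ∀ χ, χ ∈ Xf ↔ χ ∈ X := fun χ => by simp [Xf]
  have hYf : ∀ χ, χ ∈ Yf ↔ χ ∈ Y := fun χ => by simp [Yf]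
  have hXcard : Xf.card = 3 := by rw [← hXc, Nat.card_eq_fintype_card, Fintype.card_subtype]
  have hYcard : Yf.card = 2 := by
    rw [show (7 - 1) / 3 = 2 by norm_num] at hYc
    rw [← hYc, Nat.card_eq_fintype_card, Fintype.card_subtype]
  have hblock : ∀ χ, χ ∈ principalBlock M H ↔ χ ∈ Xf ∪ Yf := fun χ => by
    rw [hB, Finset.mem_union, hXf, hYf, Set.mem_union]
  have hdisj : Disjoint Xf Yf := Finset.disjoint_left.mpr fun χ h h' =>
    Set.disjoint_left.mp hXY ((hXf χ).mp h) ((hYf χ).mp h')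
  have hmem : ∀ u ∈ zpowers x, u ≠ 1 → ∃ i : ZMod 7, i ≠ 0 ∧ pw P hP i = u := fun u hu h1 => by
    obtain ⟨i, hi⟩ := pw_surjOn P hP (hPx ▸ hu : u ∈ (P : Subgroup H))
    exact ⟨i, fun h => h1 (by rw [← hi, h, pw_zero]), hi⟩
  -- the values vanish outside the block
  have hzero : ∀ χ, χ ∉ Xf → χ ∉ Yf → ∀ u ∈ zpowers x, u ≠ 1 → (χ : H → ℂ) u = 0 := by
    intro χ hχX hχY u hu h1
    obtain ⟨i, hi, rfl⟩ := hmem u hu h1
    have hb := column_inner P hM hP hi hi
    rw [if_pos (IsConj.refl _)] at hb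
    have hall := CfsgLib.Char.second_orthogonality (pw P hP i) (pw P hP i)
    rw [if_pos (IsConj.refl _), L.centralizer_of_mem hu h1, L.card_zpowers_eq] at hall
    have hdiff : ∑ χ : IrrCharacter H, (if χ ∈ principalBlock M H then 0 else
        Complex.normSq ((χ : H → ℂ) (pw P hP i)) : ℝ) = 0 := by
      have h2 : (∑ χ : IrrCharacter H, ((if χ ∈ principalBlock M H then 0 else
          Complex.normSq ((χ : H → ℂ) (pw P hP i)) : ℝ) : ℂ)) = 0 := by
        calc _ = ∑ χ : IrrCharacter H, ((χ : H → ℂ) (pw P hP i) * conj ((χ : H → ℂ) (pw P hP i)) -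
              if χ ∈ principalBlock M H then
                (χ : H → ℂ) (pw P hP i) * conj ((χ : H → ℂ) (pw P hP i)) else 0) :=
              Finset.sum_congr rfl fun χ _ => by split_ifs <;> simp [Complex.mul_conj]
          _ = 0 := by rw [Finset.sum_sub_distrib, hall, hb, sub_self]
      exact_mod_cast h2
    have h3 := (Finset.sum_eq_zero_iff_of_nonneg fun χ _ => by
      split_ifs
      · exact le_rfl
      · exact Complex.normSq_nonneg _).mp hdiff χ (Finset.mem_univ χ)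
    rw [if_neg (by rw [hblock, Finset.mem_union]; tauto)] at h3
    exact Complex.normSq_eq_zero.mp h3
  have hout : ∀ χ, χ ∉ Xf → χ ∉ Yf → 7 ∣ deg χ := by
    intro χ h1 h2
    obtain ⟨a, ha⟩ := DegreeTwoP.exists_fixedMult (H := H) L.card_zpowers_eq
    haveI := Fintype.ofFinite (zpowers x)
    have h := DegreeTwoP.sum_zpowers_const L.card_zpowers_eq (χ : H → ℂ) 0 (hzero χ h1 h2)
    rw [ha inferInstance χ, mul_zero, add_zero, deg_spec] at h
    exact ⟨a χ, by exact_mod_cast h.symm⟩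
  obtain ⟨θ, hθ⟩ := Finset.card_pos.mp (hYcard ▸ Nat.two_pos : 0 < Yf.card)
  set f := deg θ with hf
  have hYd : ∀ θ' ∈ Yf, deg θ' = f := by
    intro θ' hθ'
    have h := hYeq θ' ((hYf θ').mp hθ') θ ((hYf θ).mp hθ) 1
      (by rw [orderOf_one]; norm_num)
    rw [deg_spec θ', deg_spec θ] at h
    exact_mod_cast h
  have hfmod : (7 : ℤ) ∣ (f : ℤ) - ε * 3 := by
    have h := hYdeg θ ((hYf θ).mp hθ)
    rw [CfsgLib.SmallGroups.BrauerFew.deg_eq_charDegree] at h
    exact Int.ModEq.dvd h.symm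
  have hXmod : ∀ χ ∈ Xf, (7 : ℤ) ∣ (deg χ : ℤ) - εX χ := fun χ hχ => by
    obtain ⟨-, h2, -⟩ := hX χ ((hXf χ).mp hχ)
    rw [CfsgLib.SmallGroups.BrauerFew.deg_eq_charDegree] at h2
    exact Int.ModEq.dvd h2.symm
  have hval : ∀ χ ∈ Xf, (χ : H → ℂ) x = (εX χ : ℂ) := by
    intro χ hχ
    have := (hX χ ((hXf χ).mp hχ)).2.2 x (hPx ▸ mem_zpowers x) L.ne_one 1 (one_mem _)
      (by rw [orderOf_one]; norm_num)
    rwa [mul_one] at this
  have hnY : ∀ χ : IrrCharacter H, (deg χ = 1 ∨ deg χ = 27) → χ ∉ Yf := by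
    intro χ hχ hY
    rw [hYd χ hY] at hχ
    rcases hε with rfl | rfl <;> rcases hχ with h | h <;> rw [h] at hfmod <;> norm_num at hfmod
  have hmemX : ∀ χ : IrrCharacter H, (deg χ = 1 ∨ deg χ = 27) → χ ∈ Xf := by
    intro χ hχ
    by_contra hX'
    have := hout χ hX' (hnY χ hχ)
    omega
  set one : IrrCharacter H := CfsgLib.Char.irrOne with hone
  have h1X : one ∈ Xf := hmemX one (Or.inl deg_irrOne)
  have hcX : c ∈ Xf := hmemX c (Or.inr hcd)
  have h1c : one ≠ c := fun h => by rw [← h, hone, deg_irrOne] at hcd; omega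
  have hs1 : εX one = 1 := by
    have h := hval one h1X
    rw [hone, CfsgLib.Char.irrOne_apply, ← hone] at h
    exact_mod_cast h.symm
  have hsc : εX c = -1 := by
    have h := hval c hcX
    rw [hcx x (mem_zpowers x) L.ne_one] at h
    exact_mod_cast h.symm
  obtain ⟨d, hd⟩ : ((Xf.erase one).erase c).Nonempty := Finset.card_pos.mp (by
    rw [Finset.card_erase_of_mem (Finset.mem_erase.mpr ⟨h1c.symm, hcX⟩),
      Finset.card_erase_of_mem h1X, hXcard]; norm_num)
  obtain ⟨hdc, hd1, hdX⟩ : d ≠ c ∧ d ≠ one ∧ d ∈ Xf := by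
    simpa only [Finset.mem_erase] using hd
  have hXeq : Xf = {one, c, d} := by
    refine (Finset.eq_of_subset_of_card_le (fun z hz => ?_) ?_).symm
    · simp only [Finset.mem_insert, Finset.mem_singleton] at hz
      rcases hz with rfl | rfl | rfl <;> assumption
    · rw [hXcard, Finset.card_eq_three.mpr ⟨one, c, d, h1c, hd1.symm, hdc.symm, rfl⟩]
  have hrelZ : 1 - 27 + εX d * (deg d : ℤ) = ε * (f : ℤ) := by
    apply Int.cast_injective (α := ℂ)
    have h := hYrel θ ((hYf θ).mp hθ) 1 (by rw [orderOf_one]; norm_num)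
    rw [finsum_mem_eq_sum_of_inter_support_eq (t := Xf) _ (by ext χ; simp [Xf]), hXeq,
      Finset.sum_insert (by simp [h1c, hd1.symm]), Finset.sum_insert (by simp [hdc.symm]),
      Finset.sum_singleton, deg_spec one, deg_spec c, deg_spec d, deg_spec θ, hs1, hsc,
      show deg one = 1 from deg_irrOne, hcd] at h
    push_cast at h ⊢
    linear_combination -h
  have hbound : deg d * deg d + 2 * (f * f) + 730 ≤ 6048 := by
    have hsq : ∑ χ : IrrCharacter H, deg χ * deg χ = 6048 := by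
      have h := CfsgLib.Char.sum_degree_sq (G := H)
      simp only [deg_spec, hcard, ← pow_two] at h ⊢
      exact_mod_cast h
    have h := Finset.sum_le_sum_of_subset (f := fun χ => deg χ * deg χ) (Finset.subset_univ (Xf ∪ Yf))
    rw [hsq, Finset.sum_union hdisj, Finset.sum_congr rfl (fun χ hχ => by rw [hYd χ hχ] :
        ∀ χ ∈ Yf, deg χ * deg χ = f * f), Finset.sum_const, hYcard, hXeq,
      Finset.sum_insert (by simp [h1c, hd1.symm]), Finset.sum_insert (by simp [hdc.symm]),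
      Finset.sum_singleton, show deg one = 1 from deg_irrOne, hcd, smul_eq_mul] at h
    omega
  have hdvd : ∀ χ : IrrCharacter H, deg χ ∣ 6048 := fun χ =>
    hcard ▸ CfsgLib.Char.degree_dvd_card χ.2 (deg_spec χ)
  have key := enum (εX d) ε (hX d ((hXf d).mp hdX)).1 hε f (by nlinarith) (deg d) (by nlinarith)
    ⟨hdvd θ, hdvd d, hbound, hXmod d hdX, hfmod, hrelZ⟩
  refine ⟨fun χ => ?_, ?_⟩
  · by_cases hX' : χ ∈ Xf
    · right
      rw [hXeq, Finset.mem_insert, Finset.mem_insert, Finset.mem_singleton] at hX'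
      rcases hX' with rfl | rfl | rfl
      · simp [hone, deg_irrOne]
      · simp [hcd]
      · rcases key with ⟨ha, -⟩ | ⟨ha, -⟩ <;> simp [ha]
    · by_cases hY' : χ ∈ Yf
      · right
        rw [hYd χ hY']
        rcases key with ⟨-, hb⟩ | ⟨-, hb⟩ <;> simp [hb]
      · exact Or.inl (hout χ hX' hY')
  · rcases key with ⟨ha, -⟩ | ⟨-, hb⟩
    · exact ⟨d, by rw [ha]⟩
    · exact ⟨θ, by rw [← hf, hb]; norm_num⟩

end CfsgLib.SmallGroups.U33Degrees
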