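import Cfsg.Agent.Lib.SmallGroups.U33Degrees.Mackey
import Cfsg.Agent.Lib.SmallGroups.U33Degrees.Block
import Cfsg.Prelude.Def_DegreeGraph
import Mathlib

/-!
Degrees divisible by `6`, `14` and `21` in a group of order `6048` with the Borel subgroup of
`PSU₃(3)`.
-/

set_option autoImplicit false

namespace CfsgLib.SmallGroups.U33Degrees

open Cfsg CfsgLib.Char CfsgLib.InvolChar
open CfsgLib.SmallGroups.BrauerFew (Loc)
open scoped ComplexConjugate

variable {G : Type*} [Group G]

theorem two_constituents [Fintype G] {φ : G → ℂ} (hφ : IsCharacter G φ) (h2 : classInner φ φ = 2) :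
    ∃ χ₁ χ₂ : IrrCharacter G, χ₁ ≠ χ₂ ∧ classInner φ χ₁ = 1 ∧ classInner φ χ₂ = 1 ∧
      ∀ g, φ g = (χ₁ : G → ℂ) g + (χ₂ : G → ℂ) g := by
  classical
  obtain ⟨m, hm, hmi⟩ := char_decomp hφ
  have h := classInner_eq_sum (f' := φ) (isClassFunction_of_isCharacter hφ)
  simp only [h2, hmi, map_natCast] at h
  have hs : ∑ χ, m χ * m χ = 2 := by exact_mod_cast h.symm
  have hle : ∀ χ, m χ = 0 ∨ m χ = 1 := fun χ => by
    have h1 := Finset.single_le_sum (f := fun χ => m χ * m χ) (fun _ _ => Nat.zero_le _) (Finset.mem_univ χ)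
    rw [hs] at h1
    have : m χ ≤ 1 := by by_contra hc; push Not at hc; have := Nat.mul_le_mul hc hc; omega
    omega
  have hcard : (Finset.univ.filter fun χ => m χ = 1).card = 2 := by
    rw [← hs, Finset.card_eq_sum_ones, Finset.sum_filter]
    exact Finset.sum_congr rfl fun χ _ => by rcases hle χ with h | h <;> simp [h]
  obtain ⟨χ₁, χ₂, hne, he⟩ := Finset.card_eq_two.mp hcard
  have hm' : ∀ χ, m χ = 1 ↔ χ = χ₁ ∨ χ = χ₂ := fun χ => by simpa using Finset.ext_iff.mp he χ
  refine ⟨χ₁, χ₂, hne, by rw [hmi, (hm' χ₁).mpr (Or.inl rfl), Nat.cast_one],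
    by rw [hmi, (hm' χ₂).mpr (Or.inr rfl), Nat.cast_one], fun g => ?_⟩
  rw [congrFun hm g, Finset.sum_apply, ← Finset.sum_subset (Finset.subset_univ {χ₁, χ₂}) fun χ _ hχ => ?_,
    Finset.sum_pair hne, (hm' χ₁).mpr (Or.inl rfl), (hm' χ₂).mpr (Or.inr rfl)]
  · simp
  · simp only [Finset.mem_insert, Finset.mem_singleton, ← hm'] at hχ
    simp [(hle χ).resolve_right hχ]

/-- The data of `PSU₃(3)` used for its degree graph. -/
structure Data (G : Type*) [Group G] (x : G) (B U : Subgroup G) (w : G) (α : B →* ℂˣ) : Prop where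
  perfect : commutator G = ⊤
  card : Nat.card G = 6048
  order : orderOf x = 7
  cent : Subgroup.centralizer ({x} : Set G) = Subgroup.zpowers x
  sq : ∃ g, g * x * g⁻¹ = x ^ 2
  ninv : ∀ g, g * x * g⁻¹ ≠ x⁻¹
  bw : BW B U w
  cardU : Nat.card U = 27
  triv : ∀ b : B, (b : G) ∈ U → α b = 1
  pow8 : ∀ b : B, α b ^ 8 = 1
  ratio : ∀ c : B, ∀ h : w⁻¹ * c * w ∈ B, α ⟨_, h⟩ = α c ^ 5
  prim : ∃ c : B, w⁻¹ * c * w ∈ B ∧ α c ^ 4 ≠ 1
  real : ∀ u ∈ U, ∃ g, g * u * g⁻¹ = u⁻¹

variable [Fintype G] {x : G} {B U : Subgroup G} {w : G} {α : B →* ℂˣ}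

theorem card_B (h : Data G x B U w α) : Nat.card B = 216 := by
  have := h.bw.card_eq
  rw [h.card, h.cardU] at this
  omega

theorem ind_apply_x (h : Data G x B U w α) (θ : B → ℂ) {u : G} (hu : orderOf u = 7) :
    indFun B θ u = 0 := by
  refine indFun_eq_zero_of_forall B fun y hy => ?_
  exfalso
  have h1 := orderOf_dvd_natCard (⟨_, hy⟩ : B)
  rw [Subgroup.orderOf_mk, card_B h] at h1
  have h2 : orderOf (y⁻¹ * u * y) = 7 := by
    rw [show y⁻¹ * u * y = MulAut.conj y⁻¹ u by simp, MulEquiv.orderOf_eq, hu]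
  rw [h2] at h1
  norm_num at h1

set_option maxHeartbeats 1600000 in
theorem degrees (h : Data G x B U w α) :
    (∃ d ∈ charDegrees G, 6 ∣ d) ∧ (∃ d ∈ charDegrees G, 14 ∣ d) ∧ ∃ d ∈ charDegrees G, 21 ∣ d := by
  classical
  haveI : Fact (Nat.Prime 7) := ⟨by norm_num⟩
  have L : Loc G 7 x := ⟨h.perfect, h.order, h.cent⟩
  have hB := card_B h
  have hK : Nat.card {c : B // w⁻¹ * c * w ∈ B} = 8 := by
    have := h.bw.card_stab
    rw [hB, h.cardU] at this
    omega
  have hdeg : ∀ χ : IrrCharacter G, deg χ ∈ charDegrees G := fun χ =>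
    ⟨χ, CfsgLib.SmallGroups.BrauerFew.deg_eq_charDegree χ⟩
  have hidx : B.index = 28 := by
    have := B.card_mul_index
    rw [hB, h.card] at this
    omega
  have hdegInd : ∀ μ : B →* ℂˣ, indFun B (fun b => (μ b : ℂ)) 1 = 28 := fun μ => by
    rw [indFun_one, hidx]
    simp
  have hchar : ∀ μ : B →* ℂˣ, IsCharacter G (indFun B fun b => (μ b : ℂ)) := fun μ =>
    isCharacter_indFun B (isCharacter_of_isIrr (isIrrCharacter_units_hom μ))
  -- the norms
  have hnorm : ∀ μ : B →* ℂˣ, classInner (indFun B fun b => (μ b : ℂ)) (indFun B fun b => (μ b : ℂ)) =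
      1 + (1 / 8) * ∑ c : {c : B // w⁻¹ * c * w ∈ B}, (μ ⟨_, c.2⟩ : ℂ) * (μ c.1⁻¹ : ℂ) := fun μ => by
    rw [h.bw.norm_ind μ, hB, h.cardU]
    norm_num
  -- degree 28
  have h28 : ∃ χ : IrrCharacter G, deg χ = 28 := by
    have hirr : IsIrrCharacter G (indFun B fun b => (α b : ℂ)) := by
      refine irr_of_norm_one (hchar α) ?_
      rw [hnorm α]
      obtain ⟨c₀, hc₀, hne⟩ := h.prim
      have hr : ∀ c : {c : B // w⁻¹ * c * w ∈ B},
          (α ⟨_, c.2⟩ : ℂ) * (α c.1⁻¹ : ℂ) = ((α c.1 ^ 4 : ℂˣ) : ℂ) := fun c => by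
        rw [← Units.val_mul, h.ratio c.1 c.2, map_inv]
        congr 1
        rw [pow_succ, mul_assoc, mul_inv_cancel, mul_one]
      rw [Finset.sum_congr rfl fun c _ => hr c]
      set s := ∑ c : {c : B // w⁻¹ * c * w ∈ B}, ((α c.1 ^ 4 : ℂˣ) : ℂ) with hs
      have hmul : ∀ a b : B, w⁻¹ * a * w ∈ B → w⁻¹ * b * w ∈ B → w⁻¹ * (a * b : B) * w ∈ B := fun a b ha hb => by
        have := B.mul_mem ha hb
        rwa [show w⁻¹ * a * w * (w⁻¹ * b * w) = w⁻¹ * (a * b : B) * w by push_cast; group] at this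
      have hinvK : w⁻¹ * (c₀⁻¹ : B) * w ∈ B := by
        have := B.inv_mem hc₀
        rwa [show (w⁻¹ * c₀ * w)⁻¹ = w⁻¹ * (c₀⁻¹ : B) * w by push_cast; group] at this
      have hshift : s = ((α c₀ ^ 4 : ℂˣ) : ℂ) * s := by
        rw [hs, Finset.mul_sum]
        refine Fintype.sum_equiv
          { toFun := fun c => ⟨c₀⁻¹ * c.1, hmul _ _ hinvK c.2⟩
            invFun := fun c => ⟨c₀ * c.1, hmul _ _ hc₀ c.2⟩
            left_inv := fun c => by simp
            right_inv := fun c => by simp } _ _ fun c => ?_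
        simp [← Units.val_mul, ← mul_pow, ← map_mul]
      have hne' : ((α c₀ ^ 4 : ℂˣ) : ℂ) ≠ 1 := fun e => hne (Units.ext e)
      have hs0 : s = 0 := by
        have : (1 - ((α c₀ ^ 4 : ℂˣ) : ℂ)) * s = 0 := by linear_combination hshift
        exact (mul_eq_zero.mp this).resolve_left (sub_ne_zero.mpr hne'.symm)
      rw [hs0, mul_zero, add_zero]
    refine ⟨⟨_, hirr⟩, ?_⟩
    have := deg_spec (G := G) ⟨_, hirr⟩
    rw [show ((⟨_, hirr⟩ : IrrCharacter G) : G → ℂ) 1 = indFun B (fun b => (α b : ℂ)) 1 from rfl,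
      hdegInd] at this
    exact_mod_cast this.symm
  -- two constituents for the other two linear characters
  have htwo : ∀ μ : B →* ℂˣ, (∀ c : {c : B // w⁻¹ * c * w ∈ B}, μ ⟨_, c.2⟩ = μ c.1) →
      ∃ χ₁ χ₂ : IrrCharacter G, χ₁ ≠ χ₂ ∧
        classInner (indFun B fun b => (μ b : ℂ)) χ₁ = 1 ∧ classInner (indFun B fun b => (μ b : ℂ)) χ₂ = 1 ∧
        (∀ g, indFun B (fun b => (μ b : ℂ)) g = (χ₁ : G → ℂ) g + (χ₂ : G → ℂ) g) := fun μ hμ => by
    refine two_constituents (hchar μ) ?_
    rw [hnorm μ, Finset.sum_congr rfl (g := fun _ => (1 : ℂ)) fun c _ => by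
      rw [hμ c, ← Units.val_mul, ← map_mul, mul_inv_cancel, map_one, Units.val_one]]
    rw [Finset.sum_const, Finset.card_univ, ← Nat.card_eq_fintype_card, hK]
    norm_num
  -- degree 27
  obtain ⟨c, hcd, hcx⟩ : ∃ c : IrrCharacter G, deg c = 27 ∧
      ∀ u ∈ Subgroup.zpowers x, u ≠ 1 → (c : G → ℂ) u = -1 := by
    obtain ⟨χ₁, χ₂, hne, h1, h2, hsum⟩ := htwo 1 fun _ => rfl
    set one : IrrCharacter G := irrOne with hone
    have honei : classInner (indFun B fun b => ((1 : B →* ℂˣ) b : ℂ)) one = 1 := by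
      rw [hone, show ((irrOne : IrrCharacter G) : G → ℂ) = fun _ => 1 from funext irrOne_apply]
      simpa using classInner_indFun_one_one (G := G) B
    have hmem : one = χ₁ ∨ one = χ₂ := by
      by_contra hcon
      push Not at hcon
      have heq : classInner (indFun B fun b => ((1 : B →* ℂˣ) b : ℂ)) one =
          classInner (χ₁ : G → ℂ) one + classInner (χ₂ : G → ℂ) one := by
        rw [← classInner_add_left]
        congr 1
        funext g
        exact hsum g
      rw [honei, classInner_irr_ne χ₁.2 one.2 (fun e => hcon.1 (Subtype.ext e.symm)),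
        classInner_irr_ne χ₂.2 one.2 (fun e => hcon.2 (Subtype.ext e.symm)), add_zero] at heq
      exact one_ne_zero heq
    obtain ⟨χ, hχ⟩ : ∃ χ : IrrCharacter G,
        ∀ g, indFun B (fun b => ((1 : B →* ℂˣ) b : ℂ)) g = 1 + (χ : G → ℂ) g := by
      rcases hmem with e | e
      · exact ⟨χ₂, fun g => by rw [hsum g, ← e, hone, irrOne_apply]⟩
      · exact ⟨χ₁, fun g => by rw [hsum g, ← e, hone, irrOne_apply, add_comm]⟩
    refine ⟨χ, ?_, fun u hu hu1 => ?_⟩
    · have := hχ 1
      rw [hdegInd, deg_spec] at this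
      have h' : (28 : ℕ) = 1 + deg χ := by exact_mod_cast this
      omega
    · have := hχ u
      rw [ind_apply_x h _ (L.orderOf_of_mem hu hu1)] at this
      linear_combination -this
  obtain ⟨hdset, hsix⟩ := block_degrees L h.card h.sq h.ninv c hcd hcx
  obtain ⟨χ6, h6⟩ := hsix
  obtain ⟨χ28, h28⟩ := h28
  refine ⟨⟨_, hdeg χ6, h6⟩, ⟨_, hdeg χ28, by rw [h28]; norm_num⟩, ?_⟩
  -- degree 21
  set μ : B →* ℂˣ := α ^ 4 with hμdef
  have hμv : ∀ b, μ b = α b ^ 4 := fun b => rfl
  have hμK : ∀ c : {c : B // w⁻¹ * c * w ∈ B}, μ ⟨_, c.2⟩ = μ c.1 := fun c => by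
    rw [hμv, hμv, h.ratio c.1 c.2, ← pow_mul, show 5 * 4 = 8 * 2 + 4 by norm_num, pow_add, pow_mul,
      h.pow8, one_pow, one_mul]
  obtain ⟨χ₁, χ₂, hne, hi1, hi2, hsum⟩ := htwo μ hμK
  have hdsum : deg χ₁ + deg χ₂ = 28 := by
    have := hsum 1
    rw [hdegInd, deg_spec, deg_spec] at this
    exact_mod_cast this.symm
  -- the trivial constituent does not occur
  have hnot1 : ∀ χ : IrrCharacter G, classInner (indFun B fun b => (μ b : ℂ)) χ = 1 → deg χ ≠ 1 := by
    intro χ hχ hd
    have hone : χ = irrOne := by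
      by_contra hne1
      have := CfsgLib.SmallGroups.BrauerFew.one_lt_deg h.perfect hne1
      omega
    obtain ⟨c₀, -, hc₀⟩ := h.prim
    rw [hone, frobenius_reciprocity B _ (isClassFunction_of_isIrr irrOne.2)] at hχ
    have h0 := classInner_irr_ne (isIrrCharacter_units_hom μ) (isIrrCharacter_one (G := B)) fun e => hc₀ (by
      have := congrFun e c₀
      rw [← hμv]
      exact Units.ext this)
    rw [show (fun b : B => ((irrOne : IrrCharacter G) : G → ℂ) b) = fun _ => 1 from
      funext fun b => irrOne_apply _, h0] at hχ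
    exact zero_ne_one hχ
  have hU : ∀ χ : IrrCharacter G, classInner (indFun B fun b => (μ b : ℂ)) χ = 1 →
      ∃ k : ℕ, 1 ≤ k ∧ ∑ u : U, (χ : G → ℂ) u = 27 * k ∧ (deg χ = 14 → Even k) := by
    intro χ hχ
    have hch := isCharacter_of_isIrr χ.2
    obtain ⟨k, hk⟩ := classInner_char_nat (isCharacter_res U hch) isCharacter_one
    rw [classInner_one_right, h.cardU] at hk
    have hk' : ∑ u : U, (χ : G → ℂ) u = 27 * k := by
      rw [← hk]; push_cast; ring
    refine ⟨k, ?_, hk', fun h14 => ?_⟩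
    · -- `μ` occurs in the restriction to `B`
      obtain ⟨m, hm, hmi⟩ := char_decomp (isCharacter_res B hch)
      set μi : IrrCharacter B := ⟨_, isIrrCharacter_units_hom μ⟩ with hμi
      have hm1 : m μi = 1 := by
        have h1 := hmi μi
        rw [frobenius_reciprocity B _ (isClassFunction_of_isIrr χ.2), ← classInner_conj_symm] at hχ
        have h2 := congrArg (conj : ℂ → ℂ) hχ
        rw [Complex.conj_conj, map_one] at h2
        rw [h2] at h1
        exact_mod_cast h1.symm
      let ι : U →* B := Subgroup.inclusion h.bw.le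
      choose kφ hkφ using fun φ : IrrCharacter B => classInner_char_nat
        (isCharacter_comp (isCharacter_of_isIrr φ.2) ι) isCharacter_one
      have hkφ' : ∀ φ : IrrCharacter B, ∑ u : U, (φ : B → ℂ) (ι u) = 27 * kφ φ := fun φ => by
        have := hkφ φ
        rw [classInner_one_right, h.cardU] at this
        rw [← this]; push_cast; simp only [Function.comp_apply]; ring
      have h27 : ∑ φ : IrrCharacter B, m φ * kφ φ = k := by
        have he : (27 : ℂ) * k = 27 * ∑ φ : IrrCharacter B, (m φ : ℂ) * kφ φ := by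
          rw [← hk', Finset.mul_sum, Finset.sum_congr rfl fun (φ : IrrCharacter B) _ =>
            show 27 * ((m φ : ℂ) * kφ φ) = (m φ : ℂ) * (27 * kφ φ) by ring]
          simp only [← hkφ', Finset.mul_sum]
          rw [Finset.sum_comm]
          refine Finset.sum_congr rfl fun u _ => ?_
          have := congrFun hm (ι u)
          simpa [Finset.sum_apply, ι] using this
        exact_mod_cast (mul_left_cancel₀ (by norm_num) he).symm
      have hkμ : kφ μi = 1 := by
        have := hkφ' μi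
        rw [Finset.sum_congr rfl (g := fun _ => (1 : ℂ)) fun u _ => by
          show ((μ (ι u) : ℂˣ) : ℂ) = 1
          rw [hμv, h.triv (ι u) u.2, one_pow, Units.val_one],
          Finset.sum_const, Finset.card_univ, ← Nat.card_eq_fintype_card, h.cardU, nsmul_one] at this
        have h' : (27 : ℕ) = 27 * kφ μi := by exact_mod_cast this
        omega
      rw [← h27]
      refine le_trans ?_ (Finset.single_le_sum (fun _ _ => Nat.zero_le _) (Finset.mem_univ μi))
      rw [hm1, hkμ]
    · -- real values on `U`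
      have hreal : ∀ u : U, (χ : G → ℂ) (u⁻¹ : U) = (χ : G → ℂ) u := fun u => by
        obtain ⟨g, hg⟩ := h.real u u.2
        rw [Subgroup.coe_inv, ← hg]
        exact isClassFunction_of_isCharacter hch _ _
      let e := Fintype.equivFin U
      set R := Finset.univ.filter fun u : U => e u < e u⁻¹ with hR
      have hodd : ∀ u : U, u⁻¹ = u → u = 1 := fun u hu => by
        have h1 : orderOf u ∣ 2 := orderOf_dvd_of_pow_eq_one (by rw [pow_two]; nth_rw 2 [← hu]; exact mul_inv_cancel u)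
        have h2 : orderOf u ∣ 27 := h.cardU ▸ orderOf_dvd_natCard u
        exact orderOf_eq_one_iff.mp (Nat.dvd_one.mp (by
          simpa using Nat.dvd_gcd h1 h2))
      have hsplit : ∑ u : U, (χ : G → ℂ) u = (χ : G → ℂ) 1 + 2 * ∑ u ∈ R, (χ : G → ℂ) u := by
        rw [← Finset.add_sum_erase _ _ (Finset.mem_univ (1 : U)), OneMemClass.coe_one]
        congr 1
        rw [← Finset.sum_filter_add_sum_filter_not (Finset.univ.erase (1 : U)) (fun u => e u < e u⁻¹),
          show (Finset.univ.erase (1 : U)).filter (fun u => e u < e u⁻¹) = R by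
            ext u
            simp only [hR, Finset.mem_filter, Finset.mem_erase, Finset.mem_univ, and_true, true_and,
              and_iff_right_iff_imp]
            rintro hlt rfl
            rw [inv_one] at hlt
            exact lt_irrefl _ hlt, two_mul]
        congr 1
        refine Finset.sum_nbij' (fun u => u⁻¹) (fun u => u⁻¹) ?_ ?_ (fun u _ => inv_inv u)
          (fun u _ => inv_inv u) (fun u _ => (hreal u).symm)
        · intro u hu
          obtain ⟨h1, h2⟩ := Finset.mem_filter.mp hu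
          refine Finset.mem_filter.mpr ⟨Finset.mem_univ _, ?_⟩
          rw [inv_inv]
          exact lt_of_le_of_ne (not_lt.mp h2) fun e' =>
            (Finset.mem_erase.mp h1).1 (hodd u (e.injective e'))
        · intro u hu
          have hu' := (Finset.mem_filter.mp hu).2
          refine Finset.mem_filter.mpr ⟨Finset.mem_erase.mpr ⟨fun h1 => ?_, Finset.mem_univ _⟩, ?_⟩
          · rw [h1, inv_eq_one.mp h1] at hu'
            exact lt_irrefl _ hu'
          · rw [inv_inv]
            exact not_lt.mpr hu'.le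
      rw [hk', deg_spec, h14] at hsplit
      set A := ∑ u ∈ R, (χ : G → ℂ) u with hA
      have hint : IsIntegral ℤ A := IsIntegral.sum _ fun u _ => char_isIntegral hch _
      have hq : A = (((27 * k - 14) / 2 : ℚ) : ℂ) := by
        push_cast at hsplit ⊢
        linear_combination -(1 / 2 : ℂ) * hsplit
      obtain ⟨z, hz⟩ := exists_int_of_isIntegral_rat (hq ▸ hint)
      have : (27 * (k : ℤ) - 14) = 2 * z := by
        have : (27 * (k : ℚ) - 14) = 2 * z := by linarith
        exact_mod_cast this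
      rcases Nat.even_or_odd k with he | ⟨v, hv⟩
      · exact he
      · omega
  obtain ⟨k₁, hk1, hs1, he1⟩ := hU χ₁ hi1
  obtain ⟨k₂, hk2, hs2, he2⟩ := hU χ₂ hi2
  have hk : k₁ + k₂ = 2 := by
    have := h.bw.sum_ind_U μ (fun b hb => by rw [hμv, h.triv b hb, one_pow])
    simp only [hsum, Finset.sum_add_distrib, hs1, hs2, h.cardU] at this
    have h' : 27 * k₁ + 27 * k₂ = 2 * 27 := by exact_mod_cast this
    omega
  have hne14 : ∀ χ k, (deg χ = 14 → Even k) → k = 1 → (deg (χ : IrrCharacter G)) ≠ 14 := by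
    intro χ k he hk1 h14
    have := he h14
    rw [hk1] at this
    exact Nat.not_even_one this
  have n1 := hne14 χ₁ k₁ he1 (by omega)
  have n2 := hne14 χ₂ k₂ he2 (by omega)
  have m1 := hnot1 χ₁ hi1
  have m2 := hnot1 χ₂ hi2
  have key : 21 ∣ deg χ₁ ∨ 21 ∣ deg χ₂ := by
    have p1 := deg_pos χ₁
    have p2 := deg_pos χ₂
    have d1 := hdset χ₁
    have d2 := hdset χ₂
    simp only [List.mem_cons, List.not_mem_nil, or_false] at d1 d2
    omega
  rcases key with k | k
  · exact ⟨_, hdeg χ₁, k⟩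
  · exact ⟨_, hdeg χ₂, k⟩

end CfsgLib.SmallGroups.U33Degrees
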