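import Cfsg.Agent.Lib.Char.Induced
import Mathlib

/-!
Linear characters induced from a subgroup with two double cosets, `U` acting regularly on the
non-trivial one.
-/

set_option autoImplicit false

namespace CfsgLib.SmallGroups.U33Degrees

open Cfsg CfsgLib.Char
open scoped ComplexConjugate

variable {G : Type*} [Group G]

/-- `G = B ∪ U w B` uniquely. -/
structure BW (B U : Subgroup G) (w : G) : Prop where
  le : U ≤ B
  cover : ∀ y, y ∉ B → ∃ u ∈ U, ∃ b ∈ B, y = u * w * b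
  free : ∀ u ∈ U, w⁻¹ * u * w ∈ B → u = 1
  notMem : w ∉ B

variable {B U : Subgroup G} {w : G}

theorem BW.bijective (h : BW B U w) : Function.Bijective
    (Sum.elim (fun b : B => (b : G)) fun q : U × B => (q.1 : G) * w * q.2) := by
  have hout : ∀ q : U × B, (q.1 : G) * w * q.2 ∉ B := fun q hq => h.notMem (by
    have := B.mul_mem (B.mul_mem (B.inv_mem (h.le q.1.2)) hq) (B.inv_mem q.2.2)
    simpa [mul_assoc] using this)
  constructor
  · rintro (b | ⟨u, b⟩) (b' | ⟨u', b'⟩) he <;> simp only [Sum.elim_inl, Sum.elim_inr] at he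
    · rw [Subtype.ext he]
    · exact absurd (he ▸ b.2) (hout (u', b'))
    · exact absurd (he.symm ▸ b'.2) (hout (u, b))
    · have h1 : w⁻¹ * ((u' : G)⁻¹ * u) * w ∈ B := by
        have : w⁻¹ * ((u' : G)⁻¹ * u) * w = (b' : G) * (b : G)⁻¹ := by
          calc w⁻¹ * ((u' : G)⁻¹ * u) * w = w⁻¹ * (u' : G)⁻¹ * ((u : G) * w * b) * (b : G)⁻¹ := by group
            _ = w⁻¹ * (u' : G)⁻¹ * ((u' : G) * w * b') * (b : G)⁻¹ := by rw [he]
            _ = _ := by group
        rw [this]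
        exact B.mul_mem b'.2 (B.inv_mem b.2)
      have h2 : u' = u := Subtype.ext (inv_mul_eq_one.mp
        (h.free _ (U.mul_mem (U.inv_mem u'.2) u.2) h1))
      subst h2
      rw [mul_right_inj] at he
      rw [Subtype.ext he]
  · intro y
    by_cases hy : y ∈ B
    · exact ⟨Sum.inl ⟨y, hy⟩, rfl⟩
    · obtain ⟨u, hu, b, hb, rfl⟩ := h.cover y hy
      exact ⟨Sum.inr (⟨u, hu⟩, ⟨b, hb⟩), rfl⟩

theorem BW.sum_split [Fintype G] [Fintype B] [Fintype U] (h : BW B U w) {M : Type*} [AddCommMonoid M]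
    (F : G → M) : ∑ y, F y = (∑ b : B, F b) + ∑ u : U, ∑ b : B, F ((u : G) * w * b) := by
  rw [← Fintype.sum_bijective _ h.bijective (fun z => F (Sum.elim (fun b : B => (b : G))
    (fun q : U × B => (q.1 : G) * w * q.2) z)) F fun _ => rfl, Fintype.sum_sum_type, Fintype.sum_prod_type]
  simp only [Sum.elim_inl, Sum.elim_inr]

theorem BW.card_eq [Finite G] (h : BW B U w) :
    Nat.card G = Nat.card B + Nat.card U * Nat.card B := by
  rw [← Nat.card_congr (Equiv.ofBijective _ h.bijective), Nat.card_sum, Nat.card_prod]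

theorem BW.card_stab [Finite G] (h : BW B U w) :
    Nat.card U * Nat.card {c : B // w⁻¹ * c * w ∈ B} = Nat.card B := by
  rw [← Nat.card_prod]
  refine Nat.card_eq_of_bijective
    (fun q => (⟨(q.1 : G) * (q.2.1 : G), B.mul_mem (h.le q.1.2) q.2.1.2⟩ : B)) ⟨?_, ?_⟩
  · rintro ⟨u, ⟨c, hc⟩⟩ ⟨u', ⟨c', hc'⟩⟩ he
    have he' : (u : G) * c = (u' : G) * c' := congrArg Subtype.val he
    have h1 : w⁻¹ * ((u' : G)⁻¹ * u) * w ∈ B := by
      have : w⁻¹ * ((u' : G)⁻¹ * u) * w = (w⁻¹ * c' * w) * (w⁻¹ * c * w)⁻¹ := by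
        calc w⁻¹ * ((u' : G)⁻¹ * u) * w = w⁻¹ * (u' : G)⁻¹ * ((u : G) * c) * (c : G)⁻¹ * w := by group
          _ = w⁻¹ * (u' : G)⁻¹ * ((u' : G) * c') * (c : G)⁻¹ * w := by rw [he']
          _ = _ := by group
      rw [this]
      exact B.mul_mem hc' (B.inv_mem hc)
    have h2 : u' = u := Subtype.ext (inv_mul_eq_one.mp
      (h.free _ (U.mul_mem (U.inv_mem u'.2) u.2) h1))
    subst h2
    have : c = c' := Subtype.ext (mul_left_cancel he')
    subst this
    rfl
  · intro c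
    obtain ⟨u, hu, b, hb, he⟩ := h.cover ((c : G) * w) fun hcw => h.notMem (by
      simpa using B.mul_mem (B.inv_mem c.2) hcw)
    refine ⟨(⟨u, hu⟩, ⟨⟨u⁻¹ * c, B.mul_mem (B.inv_mem (h.le hu)) c.2⟩, ?_⟩), Subtype.ext ?_⟩
    · show w⁻¹ * (u⁻¹ * (c : G)) * w ∈ B
      rw [show w⁻¹ * (u⁻¹ * (c : G)) * w = w⁻¹ * u⁻¹ * ((c : G) * w) by group, he]
      simpa [mul_assoc] using hb
    · simp

theorem ext_conj' {θ : B → ℂ} (hθ : IsClassFunction B θ) {b : G} (hb : b ∈ B) (g : G) :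
    extendByZero B θ (b⁻¹ * g * b) = extendByZero B θ g := by
  simpa using extendByZero_conj_mem θ hθ (B.inv_mem hb) g

variable [Fintype G] [Fintype B]

theorem units_hom_inv (μ : B →* ℂˣ) (c : B) : conj ((μ c : ℂ)) = (μ c⁻¹ : ℂ) :=
  (char_inv (isCharacter_of_isIrr (isIrrCharacter_units_hom μ)) c).symm

/-- The norm of the induced linear character. -/
theorem BW.norm_ind [Fintype U] (h : BW B U w) (μ : B →* ℂˣ)
    [Fintype {c : B // w⁻¹ * c * w ∈ B}] :
    classInner (indFun B fun b => (μ b : ℂ)) (indFun B fun b => (μ b : ℂ)) =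
      1 + (Nat.card U : ℂ) / Nat.card B *
        ∑ c : {c : B // w⁻¹ * c * w ∈ B}, (μ ⟨_, c.2⟩ : ℂ) * (μ c.1⁻¹ : ℂ) := by
  classical
  set θ : B → ℂ := fun b => (μ b : ℂ) with hθ
  have hcl : IsClassFunction B θ := isClassFunction_of_isIrr (isIrrCharacter_units_hom μ)
  rw [frobenius_reciprocity' B θ (isClassFunction_indFun B θ), classInner_def]
  simp only [indFun_apply, hθ, units_hom_inv, mul_assoc, Finset.sum_mul]
  rw [← hθ]
  simp only [← Finset.mul_sum]
  rw [Finset.sum_comm, h.sum_split]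
  have h1 : ∀ b : B, ∑ c : B, extendByZero B θ ((b : G)⁻¹ * ((c : G) * b)) * (μ c⁻¹ : ℂ) = Nat.card B := by
    intro b
    rw [Finset.sum_congr rfl (g := fun _ => (1 : ℂ)) fun c _ => ?_]
    · simp [Nat.card_eq_fintype_card]
    rw [← mul_assoc ((b : G)⁻¹), ext_conj' hcl b.2, extendByZero_coe, hθ,
      ← Units.val_mul, ← map_mul, mul_inv_cancel, map_one, Units.val_one]
  have h2 : ∀ (u : U) (b : B),
      ∑ c : B, extendByZero B θ (((u : G) * w * b)⁻¹ * ((c : G) * ((u : G) * w * b))) * (μ c⁻¹ : ℂ) =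
        ∑ c : {c : B // w⁻¹ * c * w ∈ B}, (μ ⟨_, c.2⟩ : ℂ) * (μ c.1⁻¹ : ℂ) := by
    intro u b
    set u' : B := ⟨u, h.le u.2⟩ with hu'
    rw [← Fintype.sum_equiv (MulAut.conj u').toEquiv
      (fun c : B => extendByZero B θ (w⁻¹ * c * w) * (μ c⁻¹ : ℂ)) _ fun c => ?_]
    · rw [← Finset.sum_subset (Finset.subset_univ (Finset.univ.filter fun c : B => w⁻¹ * c * w ∈ B))
        fun c _ hc => by
          rw [extendByZero_of_notMem _ (by simpa using hc), zero_mul],
        Finset.sum_subtype (Finset.univ.filter fun c : B => w⁻¹ * c * w ∈ B) (p := fun c : B => w⁻¹ * c * w ∈ B)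
          (fun c => by simp)]
      exact Finset.sum_congr rfl fun c _ => by rw [extendByZero_of_mem _ c.2]
    show extendByZero B θ (w⁻¹ * c * w) * (μ c⁻¹ : ℂ) = extendByZero B θ _ * (μ (u' * c * u'⁻¹)⁻¹ : ℂ)
    rw [show ((u : G) * w * b)⁻¹ * (((MulAut.conj u').toEquiv c : B) * ((u : G) * w * b)) =
      (b : G)⁻¹ * (w⁻¹ * c * w) * b by simp [hu']; group,
      ext_conj' hcl b.2]
    congr 1
    simp only [map_inv, map_mul, Units.val_inv_eq_inv_val, Units.val_mul, mul_inv_rev]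
    field_simp
  simp only [h1, h2, Finset.sum_const, Finset.card_univ, ← Nat.card_eq_fintype_card, nsmul_eq_mul]
  have : (Nat.card B : ℂ) ≠ 0 := card_subgroup_ne_zero B
  field_simp
  simp only [mul_assoc]

/-- The sum over `U` of an induced linear character trivial on `U`. -/
theorem BW.sum_ind_U [Fintype U] (h : BW B U w) (μ : B →* ℂˣ) (hμ : ∀ b : B, (b : G) ∈ U → μ b = 1) :
    ∑ u : U, indFun B (fun b => (μ b : ℂ)) (u : G) = 2 * Nat.card U := by
  classical
  set θ : B → ℂ := fun b => (μ b : ℂ) with hθ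
  have hcl : IsClassFunction B θ := isClassFunction_of_isIrr (isIrrCharacter_units_hom μ)
  simp only [indFun_apply, ← Finset.mul_sum]
  rw [Finset.sum_comm, h.sum_split]
  have h0 : ∀ v : U, extendByZero B θ (v : G) = 1 := fun v => by
    rw [extendByZero_of_mem _ (h.le v.2)]
    show ((μ _ : ℂˣ) : ℂ) = 1
    rw [hμ _ v.2, Units.val_one]
  have h1 : ∀ b : B, ∑ v : U, extendByZero B θ ((b : G)⁻¹ * v * b) = Nat.card U := fun b => by
    simp [ext_conj' hcl b.2, h0, Nat.card_eq_fintype_card]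
  have h2 : ∀ (u : U) (b : B),
      ∑ v : U, extendByZero B θ (((u : G) * w * b)⁻¹ * v * ((u : G) * w * b)) = 1 := by
    intro u b
    have he : ∀ v : U, extendByZero B θ (((u : G) * w * b)⁻¹ * v * ((u : G) * w * b)) =
        extendByZero B θ (w⁻¹ * ((u⁻¹ * v * u : U) : G) * w) := fun v => by
      rw [← ext_conj' hcl b.2 (w⁻¹ * ((u⁻¹ * v * u : U) : G) * w)]
      congr 1
      push_cast
      group
    rw [Finset.sum_congr rfl fun v _ => he v, Finset.sum_eq_single (1 : U) (fun v _ hv => ?_) (by simp)]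
    · simpa using extendByZero_of_mem θ B.one_mem |>.trans (by rw [hθ]; exact congrArg Units.val (map_one μ) : θ ⟨1, B.one_mem⟩ = 1)
    · refine extendByZero_of_notMem _ fun hm => hv ?_
      have h3 : u⁻¹ * v * u = (1 : U) := Subtype.ext (h.free _ (u⁻¹ * v * u).2 hm)
      calc v = u * (u⁻¹ * v * u) * u⁻¹ := by group
        _ = 1 := by rw [h3]; group
  simp only [h1, h2, Finset.sum_const, Finset.card_univ, ← Nat.card_eq_fintype_card, nsmul_eq_mul]
  have : (Nat.card B : ℂ) ≠ 0 := card_subgroup_ne_zero B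
  field_simp
  ring

end CfsgLib.SmallGroups.U33Degrees
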