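import Cfsg.Agent.Lib.CharBlocks.InertiaInduced
import Cfsg.Agent.Lib.CharBlocks.Degree
import Cfsg.Agent.Lib.Char.Product
import Cfsg.Prelude.Def_DegreeGraph
import Mathlib

/-!
A solvable group of order `6048 = 56 · 54 · 2` with an irreducible character of degree `42`.
-/

set_option autoImplicit false

namespace CfsgLib.SmallGroups.U33Degrees

open Cfsg CfsgLib.Char

theorem exists_zmod_units (n : ℕ) [NeZero n] :
    ∃ ι : Multiplicative (ZMod n) →* ℂˣ, Function.Injective ι := by
  have h2 : Nat.card (rootsOfUnity n ℂ) = n := by rw [Complex.card_rootsOfUnity]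
  have h1 : Nat.card (Multiplicative (ZMod n)) = n := by
    rw [Nat.card_congr Multiplicative.toAdd, Nat.card_zmod]
  let e : Multiplicative (ZMod n) ≃* rootsOfUnity n ℂ := mulEquivOfCyclicCardEq (h1.trans h2.symm)
  exact ⟨(rootsOfUnity n ℂ).subtype.comp e.toMonoidHom,
    (rootsOfUnity n ℂ).subtype_injective.comp e.injective⟩

/-- A linear character of `A` moved by every non-trivial element of `C` induces irreducibly. -/
theorem exists_irr_semidirect {A C : Type*} [CommGroup A] [Group C] {φ : C →* MulAut A}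
    [Finite C] [Fintype (A ⋊[φ] C)] {n : ℕ} [NeZero n] (χ : A →* Multiplicative (ZMod n))
    (h : ∀ c : C, c ≠ 1 → ∃ a, χ (φ c a) ≠ χ a) :
    ∃ ψ : A ⋊[φ] C → ℂ, IsIrrCharacter (A ⋊[φ] C) ψ ∧ ψ 1 = (Nat.card C : ℂ) := by
  classical
  obtain ⟨ι, hι⟩ := exists_zmod_units n
  set N := (SemidirectProduct.inl : A →* A ⋊[φ] C).range with hN
  haveI : N.Normal := by
    rw [hN, SemidirectProduct.range_inl_eq_ker_rightHom]; infer_instance
  let e : A ≃* N := MonoidHom.ofInjective SemidirectProduct.inl_injective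
  let lam : N →* ℂˣ := (ι.comp χ).comp e.symm.toMonoidHom
  have hle : ∀ g ∈ CharNormal.inertia N (fun k : N => (lam k : ℂ)), g ∈ N := by
    intro g hg
    have hg1 : g.right = 1 := by
      by_contra hne
      obtain ⟨a, ha⟩ := h g.right hne
      have h1 := congrFun (CharNormal.mem_inertia N |>.mp hg) (e a)
      simp only [CharNormal.conjFun_apply] at h1
      have h2 : (⟨g * (e a : A ⋊[φ] C) * g⁻¹, Subgroup.Normal.conj_mem inferInstance _ (e a).2 g⟩ : N) =
          e (φ g.right a) := by
        apply Subtype.ext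
        show g * SemidirectProduct.inl a * g⁻¹ = SemidirectProduct.inl (φ g.right a)
        ext <;> simp
      rw [h2] at h1
      have h3 : lam (e (φ g.right a)) = lam (e a) := Units.ext h1
      exact ha (hι (by simpa [lam] using h3))
    exact ⟨g.left, by ext <;> simp [hg1]⟩
  have hI : N = CharNormal.inertia N (fun k : N => (lam k : ℂ)) :=
    le_antisymm (CharNormal.le_inertia N (isClassFunction_of_isIrr (isIrrCharacter_units_hom lam))) hle
  refine ⟨_, (CharBlocks.InertiaInd.isIrr_indFun N N le_rfl lam hI lam fun _ => rfl).1, ?_⟩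
  rw [indFun_one, map_one, Units.val_one, mul_one, hN, SemidirectProduct.range_inl_eq_ker_rightHom,
    Subgroup.index_ker, MonoidHom.range_eq_top.mpr SemidirectProduct.rightHom_surjective,
    Subgroup.card_top]

abbrev V8 := ZMod 2 × ZMod 2 × ZMod 2

def rot : V8 → V8 := fun v => (v.2.2, v.1 + v.2.2, v.2.1)

def rotPerm (t : Multiplicative (ZMod 7)) : Multiplicative V8 → Multiplicative V8 :=
  fun v => Multiplicative.ofAdd (rot^[t.toAdd.val] v.toAdd)

theorem rotPerm_mul : ∀ t s v, rotPerm (t * s) v = rotPerm t (rotPerm s v) := by decide +kernel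

theorem rotPerm_one : ∀ v, rotPerm 1 v = v := by decide +kernel

theorem rotPerm_hom : ∀ t u v, rotPerm t (u * v) = rotPerm t u * rotPerm t v := by decide +kernel

def act7 : Multiplicative (ZMod 7) →* MulAut (Multiplicative V8) where
  toFun t :=
    { toFun := rotPerm t
      invFun := rotPerm t⁻¹
      left_inv := fun v => by rw [← rotPerm_mul, inv_mul_cancel, rotPerm_one]
      right_inv := fun v => by rw [← rotPerm_mul, mul_inv_cancel, rotPerm_one]
      map_mul' := rotPerm_hom t }
  map_one' := MulEquiv.ext rotPerm_one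
  map_mul' t s := MulEquiv.ext (rotPerm_mul t s)

abbrev V9 := ZMod 3 × ZMod 3

def shear : DihedralGroup 3 → Multiplicative V9 → Multiplicative V9
  | .r i, v => Multiplicative.ofAdd (v.toAdd.1, v.toAdd.2 + i * v.toAdd.1)
  | .sr i, v => Multiplicative.ofAdd (v.toAdd.1, -(v.toAdd.2 + i * v.toAdd.1))

theorem shear_mul : ∀ t s v, shear (t * s) v = shear t (shear s v) := by decide +kernel

theorem shear_one : ∀ v, shear 1 v = v := by decide +kernel

theorem shear_hom : ∀ t u v, shear t (u * v) = shear t u * shear t v := by decide +kernel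

def act6 : DihedralGroup 3 →* MulAut (Multiplicative V9) where
  toFun t :=
    { toFun := shear t
      invFun := shear t⁻¹
      left_inv := fun v => by rw [← shear_mul, inv_mul_cancel, shear_one]
      right_inv := fun v => by rw [← shear_mul, mul_inv_cancel, shear_one]
      map_mul' := shear_hom t }
  map_one' := MulEquiv.ext shear_one
  map_mul' t s := MulEquiv.ext (shear_mul t s)

abbrev AGL8 := Multiplicative V8 ⋊[act7] Multiplicative (ZMod 7)
abbrev H54 := Multiplicative V9 ⋊[act6] DihedralGroup 3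
/-- The witness group. -/
abbrev Wit := (AGL8 × H54) × Multiplicative (ZMod 2)

theorem card_wit : Nat.card Wit = 6048 := by
  have hD : Fintype.card (DihedralGroup 3) = 6 := DihedralGroup.card
  simp [Nat.card_prod, SemidirectProduct.card, hD, Nat.card_zmod]

instance instFiniteWit : Finite Wit :=
  haveI : Finite AGL8 := Finite.of_equiv _ SemidirectProduct.equivProd.symm
  haveI : Finite H54 := Finite.of_equiv _ SemidirectProduct.equivProd.symm
  inferInstance

theorem solvable_semidirect {A C : Type*} [CommGroup A] [Group C] {φ : C →* MulAut A}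
    [Group.IsSolvable C] : Group.IsSolvable (A ⋊[φ] C) :=
  Group.isSolvable_of_ker_le_range SemidirectProduct.inl (SemidirectProduct.rightHom : A ⋊[φ] C →* C)
    SemidirectProduct.range_inl_eq_ker_rightHom.ge

theorem solvable_dihedral (n : ℕ) : Group.IsSolvable (DihedralGroup n) := by
  let f : Multiplicative (ZMod n) →* DihedralGroup n :=
    { toFun := fun i => .r i.toAdd
      map_one' := rfl
      map_mul' := fun i j => by simp }
  let g : DihedralGroup n →* Multiplicative (ZMod 2) :=
    { toFun := fun x => Multiplicative.ofAdd (match x with | .r _ => 0 | .sr _ => 1)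
      map_one' := rfl
      map_mul' := fun x y => by cases x <;> cases y <;> simp [← ofAdd_add] <;> decide }
  refine Group.isSolvable_of_ker_le_range f g ?_
  intro x hx
  cases x with
  | r i => exact ⟨Multiplicative.ofAdd i, rfl⟩
  | sr i =>
    have h : Multiplicative.ofAdd (1 : ZMod 2) = 1 := hx
    exact absurd h (by decide)

theorem solvable_wit : Group.IsSolvable Wit := by
  haveI := solvable_dihedral 3
  haveI : Group.IsSolvable AGL8 := solvable_semidirect
  haveI : Group.IsSolvable H54 := solvable_semidirect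
  infer_instance

def chr8 : Multiplicative V8 →* Multiplicative (ZMod 2) :=
  AddMonoidHom.toMultiplicative (AddMonoidHom.fst (ZMod 2) (ZMod 2 × ZMod 2))

def chr9 : Multiplicative V9 →* Multiplicative (ZMod 3) :=
  AddMonoidHom.toMultiplicative (AddMonoidHom.snd (ZMod 3) (ZMod 3))

theorem chr8_moved : ∀ c : Multiplicative (ZMod 7), c ≠ 1 → ∃ a, chr8 (act7 c a) ≠ chr8 a := by
  decide +kernel

theorem chr9_moved : ∀ c : DihedralGroup 3, c ≠ 1 → ∃ a, chr9 (act6 c a) ≠ chr9 a := by
  decide +kernel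

theorem degree_wit [Fintype Wit] : 42 ∈ charDegrees Wit := by
  haveI : Finite AGL8 := Finite.of_equiv _ SemidirectProduct.equivProd.symm
  haveI : Finite H54 := Finite.of_equiv _ SemidirectProduct.equivProd.symm
  haveI : Fintype AGL8 := Fintype.ofFinite _
  haveI : Fintype H54 := Fintype.ofFinite _
  obtain ⟨a, ha, ha1⟩ := exists_irr_semidirect chr8 chr8_moved
  obtain ⟨b, hb, hb1⟩ := exists_irr_semidirect chr9 chr9_moved
  refine ⟨⟨_, isIrr_prod (isIrr_prod ha hb) isIrrCharacter_one⟩, CharBlocks.charDegree_eq ?_⟩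
  show a 1 * b 1 * 1 = _
  rw [ha1, hb1]
  simp [(DihedralGroup.card : Fintype.card (DihedralGroup 3) = 6)]
  norm_num

/-- A group of order `6048` with pairwise products of `2, 3, 7` dividing degrees. -/
theorem degree_graph_eq {G : Type*} [Group G] [Fintype G] (hG : Nat.card G = 6048)
    (h6 : ∃ d ∈ charDegrees G, 6 ∣ d) (h14 : ∃ d ∈ charDegrees G, 14 ∣ d)
    (h21 : ∃ d ∈ charDegrees G, 21 ∣ d) :
    degreePrimes G = {2, 3, 7} ∧
      ∀ p q, (degreeGraph G).Adj p q ↔ p ≠ q ∧ p ∈ ({2, 3, 7} : Set ℕ) ∧ q ∈ ({2, 3, 7} : Set ℕ) := by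
  have hmem : ∀ p : ℕ, p.Prime → ∀ d ∈ charDegrees G, p ∣ d → p ∈ ({2, 3, 7} : Set ℕ) := by
    rintro p hp d ⟨χ, rfl⟩ hpd
    have h : p ∣ 2 ^ 5 * (3 ^ 3 * 7) := by
      have := hpd.trans (CharBlocks.charDegree_dvd_card χ.2)
      rwa [hG] at this
    rcases hp.dvd_mul.mp h with h | h
    · exact Or.inl ((Nat.prime_dvd_prime_iff_eq hp Nat.prime_two).mp (hp.dvd_of_dvd_pow h))
    rcases hp.dvd_mul.mp h with h | h
    · exact Or.inr (Or.inl ((Nat.prime_dvd_prime_iff_eq hp Nat.prime_three).mp (hp.dvd_of_dvd_pow h)))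
    · exact Or.inr (Or.inr ((Nat.prime_dvd_prime_iff_eq hp (by norm_num)).mp h))
  have hprime : ∀ p ∈ ({2, 3, 7} : Set ℕ), p.Prime := by
    rintro p (rfl | rfl | rfl) <;> norm_num
  obtain ⟨a, ha, ha'⟩ := h6
  obtain ⟨b, hb, hb'⟩ := h14
  obtain ⟨c, hc, hc'⟩ := h21
  refine ⟨Set.ext fun p => ⟨fun ⟨hp, d, hd, h⟩ => hmem p hp d hd h, fun hp => ⟨hprime p hp, ?_⟩⟩,
    fun p q => ⟨fun ⟨hne, hp, hq, d, hd, h⟩ =>
      ⟨hne, hmem p hp d hd ((dvd_mul_right p q).trans h), hmem q hq d hd ((dvd_mul_left q p).trans h)⟩,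
      fun ⟨hne, hp, hq⟩ => ⟨hne, hprime p hp, hprime q hq, ?_⟩⟩⟩
  · rcases hp with rfl | rfl | rfl
    · exact ⟨a, ha, (show 2 ∣ 6 by norm_num).trans ha'⟩
    · exact ⟨a, ha, (show 3 ∣ 6 by norm_num).trans ha'⟩
    · exact ⟨b, hb, (show 7 ∣ 14 by norm_num).trans hb'⟩
  · rcases hp with rfl | rfl | rfl <;> rcases hq with rfl | rfl | rfl <;>
      first | exact absurd rfl hne | exact ⟨a, ha, ha'⟩ | exact ⟨b, hb, hb'⟩ | exact ⟨c, hc, hc'⟩

end CfsgLib.SmallGroups.U33Degrees
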